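import Mathlib
import Cfsg.Agent.OneClassDerived.Big
import Cfsg.Agent.GHFour.Main
import Cfsg.Agent.ZJ.Fpf
import Cfsg.Agent.S0081
import Cfsg.Agent.CoprimeAction.Frattini

/-!
A finite group whose derived subgroup is the union of a normal subgroup `K` and a single class, and in which only
elements of the derived subgroup are central modulo `K`, is solvable.
-/

set_option autoImplicit false
set_option linter.unusedSectionVars false
set_option linter.style.haveILetI false

open scoped commutatorElement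

namespace CfsgLib.OneClassDerived

universe u

variable {G : Type u} [Group G] [Finite G]

theorem isSolvable_of_one_class (K : Subgroup G) [hKn : K.Normal] (hK : K ≤ commutator G)
    (hne : ¬ commutator G ≤ K)
    (hconj : ∀ x ∈ commutator G, x ∉ K → ∀ y ∈ commutator G, y ∉ K → IsConj x y)
    (hcentral : ∀ c : G, (∀ x : G, ⁅c, x⁆ ∈ K) → c ∈ commutator G) : Group.IsSolvable G := by
  classical
  set D := commutator G with hDdef
  obtain ⟨y₀, hy₀, hy₀K, p, a, hp, hpa⟩ : ∃ y ∈ D, y ∉ K ∧ ∃ p a : ℕ, p.Prime ∧ orderOf y = p ^ a := by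
    by_contra hno
    push Not at hno
    refine hne fun x hx => CfsgLib.GHFour.mem_of_prime_powers K x fun y hy ⟨q, k, hq, hk⟩ => ?_
    by_contra hyK
    exact hno y (Subgroup.zpowers_le.2 hx hy) hyK q k hq hk
  haveI := Fact.mk hp
  have hord : ∀ x ∈ D, x ∉ K → orderOf x = p ^ a := by
    intro x hx hxK
    obtain ⟨c, rfl⟩ := isConj_iff.1 (hconj y₀ hy₀ hy₀K x hx hxK)
    rw [← hpa]
    exact orderOf_injective (MulAut.conj c).toMonoidHom (MulAut.conj c).injective y₀
  have hpow : ∀ x ∈ D, x ^ p ∈ K := by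
    intro x hx
    by_contra hxK
    have hxK' : x ∉ K := fun h => hxK (pow_mem h p)
    have h1 := hord _ (pow_mem hx p) hxK
    have h2 := hord x hx hxK'
    have ha : a ≠ 0 := fun e => hxK' (by
      rw [e, pow_zero, orderOf_eq_one_iff] at h2
      rw [h2]; exact one_mem K)
    rw [orderOf_pow' x hp.ne_zero, h2, Nat.gcd_eq_right (dvd_pow_self p ha)] at h1
    exact absurd h1 (Nat.div_lt_self (Nat.pow_pos hp.pos) hp.one_lt).ne
  -- the image in `G / K`
  set π := QuotientGroup.mk' K with hπ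
  have hπs : Function.Surjective π := QuotientGroup.mk'_surjective K
  have hπz : ∀ {x : G}, π x = 1 ↔ x ∈ K := fun {x} => QuotientGroup.eq_one_iff x
  haveI : (D.map π).Normal := (inferInstance : D.Normal).map π hπs
  have hDp : IsPGroup p (D.map π) := by
    rintro ⟨_, x, hx, rfl⟩
    exact ⟨1, Subtype.ext (by
      rw [SubgroupClass.coe_pow, pow_one]
      change π x ^ p = 1
      rw [← map_pow, hπz]; exact hpow x hx)⟩
  have hpcomm : ∀ x ∈ D, ∀ y ∈ D, ⁅x, y⁆ ∈ K := by
    intro x hx y hy
    by_contra hxy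
    have hle : D ≤ ⁅D, D⁆ ⊔ K := by
      intro z hz
      by_cases hzK : z ∈ K
      · exact Subgroup.mem_sup_right hzK
      have hm : ⁅x, y⁆ ∈ ⁅D, D⁆ := Subgroup.commutator_mem_commutator hx hy
      obtain ⟨c, rfl⟩ := isConj_iff.1 (hconj _ (Subgroup.commutator_le_left D D hm) hxy z hz hzK)
      exact Subgroup.mem_sup_left ((inferInstance : (⁅D, D⁆).Normal).conj_mem _ hm c)
    have hle' : D.map π ≤ ⁅D.map π, D.map π⁆ := by
      rw [← Subgroup.map_commutator]
      intro z hz
      obtain ⟨z, hz, rfl⟩ := hz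
      obtain ⟨u, hu, k, hk, rfl⟩ := Subgroup.mem_sup_of_normal_right.1 (hle hz)
      exact ⟨u, hu, by rw [map_mul, hπz.2 hk, mul_one]⟩
    haveI := hDp.isNilpotent
    obtain ⟨n, hn⟩ := Subgroup.nilpotent_iff_lowerCentralSeries.1 (inferInstance : Group.IsNilpotent (D.map π))
    have hall : ∀ m, D.map π ≤ (D.map π).lowerCentralSeries m := by
      intro m
      induction m with
      | zero => exact le_rfl
      | succ m ih =>
        rw [Subgroup.lowerCentralSeries_succ]
        exact hle'.trans (Subgroup.commutator_mono ih le_rfl)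
    have hz : (D.map π).lowerCentralSeries n = ⊥ := by
      rw [← Subgroup.top_subtype_lowerCentralSeries, hn, Subgroup.map_bot]
    exact hne fun z hz' => hπz.1 (Subgroup.mem_bot.1 (hz ▸ hall n ⟨z, hz', rfl⟩))
  -- a Sylow subgroup and an element central in it modulo `K`
  obtain ⟨S⟩ := (inferInstance : Nonempty (Sylow p G))
  have hD1 : D.map π ≠ ⊥ := fun e => hne (by
    have := (Subgroup.map_eq_bot_iff D).1 e
    rwa [hπ, QuotientGroup.ker_mk'] at this)
  have hSimg : D.map π ≤ (S : Subgroup G).map π :=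
    (CfsgLib.PCore.le_pCore inferInstance hDp).trans
      ((CfsgLib.PCore.pCore_le_sylow (S.mapSurjective hπs)).trans le_rfl)
  obtain ⟨z, hz, hz1, hzc⟩ := exists_fixed (S.isPGroup'.map π) (D.map π) hDp hD1
  obtain ⟨y, hyS, rfl⟩ := hSimg hz
  have hyD : y ∈ D := by
    obtain ⟨d, hd, e⟩ := hz
    have h1 : d⁻¹ * y ∈ K := hπz.1 (by rw [map_mul, map_inv, e, inv_mul_cancel])
    have := mul_mem hd (hK h1)
    rwa [mul_inv_cancel_left] at this
  have hyK : y ∉ K := fun h => hz1 (hπz.2 h)
  have hys : ∀ s ∈ (S : Subgroup G), ⁅s, y⁆ ∈ K := fun s hs => by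
    rw [← hπz, map_commutatorElement, commutatorElement_eq_one_iff_mul_comm]
    exact hzc _ ⟨s, hs, rfl⟩
  -- the centralizer of `y`
  set K₀ := (S : Subgroup G) ⊓ K with hK₀
  set C := Subgroup.centralizer ({y} : Set G) with hC
  have hclass : Nat.card C * ((K.relIndex D - 1) * Nat.card K) = Nat.card G := by
    have h1 : Nat.card {z : G // IsConj y z} = ((D : Set G) \ (K : Set G)).ncard := by
      rw [← Nat.card_coe_set_eq]
      refine Nat.card_congr (Equiv.subtypeEquivRight fun z => ⟨fun h => ?_, fun h => hconj y hyD hyK z h.1 h.2⟩)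
      obtain ⟨c, rfl⟩ := isConj_iff.1 h
      refine ⟨(inferInstance : D.Normal).conj_mem y hyD c, fun hk => hyK ?_⟩
      have := hKn.conj_mem _ hk c⁻¹
      simpa [mul_assoc] using this
    have h2 : ((D : Set G) \ (K : Set G)).ncard = (K.relIndex D - 1) * Nat.card K := by
      rw [Set.ncard_sdiff (fun a ha => hK ha) (Set.toFinite _), ← Nat.card_coe_set_eq (D : Set G),
        ← Nat.card_coe_set_eq (K : Set G)]
      change Nat.card D - Nat.card K = _
      rw [Nat.sub_one_mul, mul_comm, card_mul_rel hK]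
    rw [← h2, ← h1, CfsgLib.CharBasics.card_conjClass, Subgroup.card_mul_index]
  have hcard : Nat.card K₀ * Nat.card ↥((S : Subgroup G) ⊓ C) ≤ Nat.card (S : Subgroup G) := by
    obtain ⟨i, hi⟩ := IsPGroup.iff_card.1 (S.isPGroup'.to_le (inf_le_left : K₀ ≤ (S : Subgroup G)))
    obtain ⟨j, hj⟩ := IsPGroup.iff_card.1 (S.isPGroup'.to_le (inf_le_left : (S : Subgroup G) ⊓ C ≤ (S : Subgroup G)))
    have hdvd : Nat.card K₀ * Nat.card ↥((S : Subgroup G) ⊓ C) ∣ Nat.card G := by
      refine (Nat.mul_dvd_mul (Subgroup.card_dvd_of_le inf_le_right) (Subgroup.card_dvd_of_le inf_le_right)).trans ?_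
      exact ⟨K.relIndex D - 1, by rw [← hclass]; ring⟩
    rw [hi, hj, ← pow_add] at hdvd ⊢
    rw [S.card_eq_multiplicity]
    exact Nat.pow_le_pow_right hp.pos ((hp.pow_dvd_iff_le_factorization Nat.card_pos.ne').1 hdvd)
  have hK₀le : K₀ ≤ ⁅(S : Subgroup G), (S : Subgroup G)⁆ := by
    let F : ↥(S : Subgroup G) → K₀ := fun s => ⟨⁅(s : G), y⁆, by
      rw [commutatorElement_def]
      exact Subgroup.mul_mem _ (Subgroup.mul_mem _ (Subgroup.mul_mem _ s.2 hyS) (Subgroup.inv_mem _ s.2))
        (Subgroup.inv_mem _ hyS), hys s s.2⟩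
    have hF : ∀ a b : ↥(S : Subgroup G), F a = F b → (a : G)⁻¹ * b ∈ (S : Subgroup G) ⊓ C := by
      intro a b e
      have e' : (a : G) * y * (a : G)⁻¹ * y⁻¹ = (b : G) * y * (b : G)⁻¹ * y⁻¹ := congrArg Subtype.val e
      have e'' := mul_right_cancel e'
      refine ⟨Subgroup.mul_mem _ (Subgroup.inv_mem _ a.2) b.2, Subgroup.mem_centralizer_singleton_iff.2 ?_⟩
      calc (a : G)⁻¹ * b * y = (a : G)⁻¹ * ((b : G) * y * (b : G)⁻¹) * b := by group
        _ = y * ((a : G)⁻¹ * b) := by rw [← e'']; group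
    let g : ↥(S : Subgroup G) → Set.range F × ↥((S : Subgroup G) ⊓ C) := fun x => (Set.rangeFactorization F x,
      ⟨((Set.rangeFactorization F x).2.choose : G)⁻¹ * x, hF _ _ (Set.rangeFactorization F x).2.choose_spec⟩)
    have hg : Function.Injective g := by
      intro a b e
      have e1 : Set.rangeFactorization F a = Set.rangeFactorization F b := congrArg Prod.fst e
      have e2 := congrArg (fun z => ((z.2 : ↥((S : Subgroup G) ⊓ C)) : G)) e
      simp only [g] at e2
      rw [e1] at e2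
      exact Subtype.ext (mul_left_cancel e2)
    have h1 := hcard.trans (Nat.card_le_card_of_injective g hg)
    rw [Nat.card_prod] at h1
    have h2 : Set.range F = Set.univ := by
      refine Set.eq_of_subset_of_ncard_le (Set.subset_univ _) ?_
      rw [Set.ncard_univ, ← Nat.card_coe_set_eq]
      exact Nat.le_of_mul_le_mul_right h1 Nat.card_pos
    intro k hk
    obtain ⟨x, hx⟩ := h2.ge (Set.mem_univ (⟨k, hk⟩ : K₀))
    rw [← show ⁅(x : G), y⁆ = k from congrArg Subtype.val hx]
    exact Subgroup.commutator_mem_commutator x.2 hyS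
  -- the normal complement
  have hfrat : K ⊓ (S : Subgroup G) ≤ (frattini (S : Subgroup G)).map (S : Subgroup G).subtype := by
    rw [inf_comm]
    refine hK₀le.trans ?_
    rw [← Subgroup.map_subtype_commutator]
    exact Subgroup.map_mono (CfsgLib.CoprimeAction.commutator_le_frattini' S.isPGroup')
  obtain ⟨Q₀, N₀, hN₀n, hN₀⟩ := Cfsg.Agent.S0081.result S K hfrat
  set L := (Cfsg.pPrimeCore p K).map K.subtype with hL
  haveI : L.Normal := by
    rw [hL, CfsgLib.PCore.map_pPrimeCore_normal]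
    haveI := CfsgLib.PCore.pPrimeCore_characteristic p G
    infer_instance
  have hLK : L ≤ K := Subgroup.map_subtype_le _
  have hLcop : (Nat.card L).Coprime p := by
    rw [hL, Subgroup.card_map_of_injective K.subtype_injective]
    exact CfsgLib.PCore.pPrimeCore_coprime p K
  have hLrel : ∃ n, L.relIndex K = p ^ n := by
    have hcop : (Nat.card N₀).Coprime p := by
      have h2 : Nat.card N₀ = (Q₀ : Subgroup K).index := hN₀.index_eq_card.symm
      rw [h2]
      exact CfsgLib.PCore.coprime_of_not_dvd Q₀.not_dvd_index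
    have hle : N₀ ≤ Cfsg.pPrimeCore p K := CfsgLib.PCore.le_pPrimeCore hN₀n hcop
    obtain ⟨n, hn⟩ := IsPGroup.iff_card.1 Q₀.isPGroup'
    rw [← hN₀.symm.index_eq_card] at hn
    obtain ⟨i, -, hi⟩ := (Nat.dvd_prime_pow hp).1 (hn ▸ Subgroup.index_dvd_of_le hle :
      (Cfsg.pPrimeCore p K).index ∣ p ^ n)
    refine ⟨i, ?_⟩
    rw [Subgroup.relIndex, hL, Subgroup.subgroupOf, Subgroup.comap_map_eq_self_of_injective K.subtype_injective, hi]
  obtain ⟨b, hb, hbK, hb'⟩ : ∃ b ∈ D, b ∉ K ∧ (b ^ p ∈ L ∨ b ^ 4 ∈ L) := by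
    set f := QuotientGroup.mk' L with hf
    have hfs : Function.Surjective f := QuotientGroup.mk'_surjective L
    have hfm : ∀ {x : G}, f x ∈ K.map f ↔ x ∈ K := fun {x} => by
      rw [← Subgroup.mem_comap, Subgroup.comap_map_eq, QuotientGroup.ker_mk', sup_of_le_left hLK]
    have hfP : ∀ {x : G}, f x ∈ D.map f ↔ x ∈ D := fun {x} => by
      rw [← Subgroup.mem_comap, Subgroup.comap_map_eq, QuotientGroup.ker_mk', sup_of_le_left (hLK.trans hK)]
    obtain ⟨i, hi⟩ := hLrel
    obtain ⟨j, hj⟩ : ∃ j, K.relIndex D = p ^ j := by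
      obtain ⟨n, hn⟩ := IsPGroup.iff_card.1 hDp
      refine ⟨n, ?_⟩
      rw [← hn, ← Subgroup.relIndex_bot_left,
        ← (Subgroup.map_eq_bot_iff (f := π) K).2 (by rw [hπ, QuotientGroup.ker_mk']),
        Subgroup.relIndex_map_map, hπ, QuotientGroup.ker_mk', sup_idem, sup_of_le_left hK]
    have hΓ : Data p (D.map f) (K.map f) :=
      { pP := IsPGroup.of_card (n := i + j) (by
          rw [← Subgroup.relIndex_bot_left, ← (Subgroup.map_eq_bot_iff (f := f) L).2 (by rw [hf, QuotientGroup.ker_mk']),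
            Subgroup.relIndex_map_map, hf, QuotientGroup.ker_mk', sup_idem, sup_of_le_left (hLK.trans hK),
            ← Subgroup.relIndex_mul_relIndex L K D hLK hK, hi, hj, pow_add])
        le := Subgroup.map_mono hK
        comm := fun x y => by
          obtain ⟨x, rfl⟩ := hfs x; obtain ⟨y, rfl⟩ := hfs y
          rw [← map_commutatorElement]
          exact hfP.2 (Subgroup.commutator_mem_commutator (Subgroup.mem_top x) (Subgroup.mem_top y))
        pcomm := by
          rintro _ ⟨x, hx, rfl⟩ _ ⟨y, hy, rfl⟩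
          rw [← map_commutatorElement]; exact hfm.2 (hpcomm x hx y hy)
        pow := by
          rintro _ ⟨x, hx, rfl⟩
          rw [← map_pow]; exact hfm.2 (hpow x hx)
        ne := fun h => hne fun x hx => hfm.1 (h ⟨x, hx, rfl⟩)
        conj := by
          rintro _ ⟨x, hx, rfl⟩ hxk _ ⟨y, hy, rfl⟩ hyk
          exact f.map_isConj (hconj x hx (fun h => hxk (hfm.2 h)) y hy (fun h => hyk (hfm.2 h)))
        central := fun c hc => by
          obtain ⟨c, rfl⟩ := hfs c
          exact hfP.2 (hcentral c fun x => hfm.1 (by rw [map_commutatorElement]; exact hc (f x)))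
        noncomm := by
          by_contra h
          push Not at h
          refine hne ?_
          rw [hDdef, commutator_def, Subgroup.commutator_le]
          exact fun x _ y _ => hfm.1 (by rw [map_commutatorElement]; exact h (f x) (f y)) }
    have hPn : (D.map f).Normal := (inferInstance : D.Normal).map f hfs
    have hKfn : (K.map f).Normal := hKn.map f hfs
    have hrel : (K.map f).relIndex (D.map f) = K.relIndex D := by
      rw [Subgroup.relIndex_map_map, QuotientGroup.ker_mk', sup_of_le_left hLK, sup_of_le_left (hLK.trans hK)]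
    have hlift : ∀ {n : ℕ} (x : G ⧸ L), x ∈ D.map f → x ∉ K.map f → x ^ n = 1 →
        ∃ b ∈ D, b ∉ K ∧ b ^ n ∈ L := by
      rintro n _ ⟨b, hb, rfl⟩ hk hn
      exact ⟨b, hb, fun h => hk (hfm.2 h), (QuotientGroup.eq_one_iff _).1 ((map_pow f b n).trans hn)⟩
    by_cases hbot : K.map f = ⊥
    · refine ⟨y, hyD, hyK, Or.inl ((QuotientGroup.eq_one_iff _).1 ?_)⟩
      exact Subgroup.mem_bot.1 (hbot ▸ hfm.2 (hpow y hyD))
    rcases Nat.lt_or_ge 2 (K.relIndex D) with hq | hq
    · obtain ⟨x, hx, hxK, h | h⟩ := exists_small_order hΓ hPn hKfn (hrel.symm ▸ hq)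
      · obtain ⟨b, h1, h2, h3⟩ := hlift x hx hxK h
        exact ⟨b, h1, h2, Or.inl h3⟩
      · obtain ⟨b, h1, h2, h3⟩ := hlift x hx hxK h
        exact ⟨b, h1, h2, Or.inr h3⟩
    · have h1 : K.relIndex D ≠ 1 := fun e => hne (Subgroup.relIndex_eq_one.1 e)
      have hj0 : j ≠ 0 := fun e => h1 (by rw [hj, e, pow_zero])
      have h2 : p ≤ K.relIndex D := hj ▸ Nat.le_self_pow hj0 p
      have hp2 : p = 2 := by have := hp.two_le; omega
      subst hp2
      obtain ⟨x, hx, hxK, h⟩ := exists_pow_four hΓ hPn hKfn (hrel.trans (by omega)) hbot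
      obtain ⟨b, h1, h2, h3⟩ := hlift x hx hxK h
      exact ⟨b, h1, h2, Or.inr h3⟩
  -- `L` is solvable
  have hpL : ∀ w ∈ L, (∃ n, orderOf w = p ^ n) → w = 1 := fun w hw ⟨n, hn⟩ =>
    orderOf_eq_one_iff.1 (Nat.eq_one_of_dvd_coprimes (hLcop.pow_right n) (L.orderOf_dvd_natCard hw) (hn ▸ dvd_rfl))
  have hbpow : ∀ n : ℕ, b ^ n ∈ L → b ^ n = 1 := fun n hn => by
    refine hpL _ hn ?_
    obtain ⟨i, -, hi⟩ := (Nat.dvd_prime_pow hp).1 ((orderOf_pow_dvd n).trans (hord b hb hbK).dvd)
    exact ⟨i, hi⟩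
  let α : MulAut L := MulAut.conjNormal b
  have hαf : ∀ x : L, α x = x → x = 1 := by
    intro x hx
    have h1 : b * x * b⁻¹ = (x : G) := congrArg Subtype.val hx
    have hc : Commute b (x : G) := mul_inv_eq_iff_eq_mul.1 h1
    have hcop : (orderOf b).Coprime (orderOf (x : G)) := by
      rw [hord b hb hbK]
      exact Nat.Coprime.pow_left a (hLcop.coprime_dvd_left (L.orderOf_dvd_natCard x.2)).symm
    have h2 := hc.orderOf_mul_eq_mul_orderOf_of_coprime hcop
    rw [hord _ (mul_mem hb (hK (hLK x.2))) (fun h => hbK ((K.mul_mem_cancel_right (hLK x.2)).1 h)),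
      hord b hb hbK] at h2
    refine Subtype.ext (orderOf_eq_one_iff.1 ?_)
    exact (Nat.eq_of_mul_eq_mul_left (Nat.pow_pos hp.pos) (by rw [← h2, mul_one])).symm
  have hαpow : ∀ n : ℕ, b ^ n = 1 → α ^ n = 1 := fun n hn => by
    rw [show α ^ n = MulAut.conjNormal (b ^ n) from (map_pow _ b n).symm, hn, map_one]
  have hLsol : Group.IsSolvable L := by
    rcases hb' with h | h
    · haveI := CfsgLib.ZJ.isNilpotent_of_fixedPointFree hp (α := α) (fun x hx => hαf x hx) (hαpow p (hbpow p h))
      infer_instance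
    · exact CfsgLib.GHFour.isSolvable_of_fpf_four α (hαpow 4 (hbpow 4 h)) hαf
  -- assemble
  have hDsol : Group.IsSolvable D := by
    obtain ⟨i, hi⟩ := hLrel
    obtain ⟨n, hn⟩ := IsPGroup.iff_card.1 hDp
    have hj : K.relIndex D = p ^ n := by
      rw [← hn, ← Subgroup.relIndex_bot_left,
        ← (Subgroup.map_eq_bot_iff (f := π) K).2 (by rw [hπ, QuotientGroup.ker_mk']),
        Subgroup.relIndex_map_map, hπ, QuotientGroup.ker_mk', sup_idem, sup_of_le_left hK]
    have hq : IsPGroup p (D ⧸ L.subgroupOf D) := IsPGroup.of_card (n := i + n) (by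
      rw [← Subgroup.index_eq_card]
      change L.relIndex D = _
      rw [← Subgroup.relIndex_mul_relIndex L K D hLK hK, hi, hj, pow_add])
    haveI := hq.isNilpotent
    haveI : Group.IsSolvable ↥(L.subgroupOf D) :=
      Group.isSolvable_of_isSolvable_injective (f := (Subgroup.subgroupOfEquivOfLe (hLK.trans hK)).toMonoidHom)
        (Subgroup.subgroupOfEquivOfLe (hLK.trans hK)).injective
    exact Group.isSolvable_of_ker_le_range (L.subgroupOf D).subtype (QuotientGroup.mk' (L.subgroupOf D))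
      (by rw [QuotientGroup.ker_mk', Subgroup.range_subtype])
  haveI := hDsol
  haveI : Group.IsSolvable (G ⧸ D) := Group.isSolvable_of_comm fun a b => @mul_comm (Abelianization G) _ a b
  exact Group.isSolvable_of_ker_le_range D.subtype (QuotientGroup.mk' D)
    (by rw [QuotientGroup.ker_mk', Subgroup.range_subtype])

end CfsgLib.OneClassDerived
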